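import Cfsg.Agent.AutOrth.Bounds
import Cfsg.Agent.OrthGeo.QuadOdd

/-! Automorphisms of the odd-dimensional orthogonal simple groups. -/

set_option autoImplicit false

namespace CfsgLib.AutOrth

open CfsgLib.OrthGeo

lemma two_ne_zero_of_odd {F : Type*} [Field F] [Fintype F] (hodd : Odd (Fintype.card F)) : (2 : F) ≠ 0 := by
  refine Ring.two_ne_zero fun h => ?_
  have h1 := FiniteField.even_card_of_char_two h
  rw [Nat.odd_iff] at hodd
  omega

lemma three_le_card_of_odd {F : Type*} [Field F] [Fintype F] (hodd : Odd (Fintype.card F)) :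
    3 ≤ Fintype.card F := by
  have h1 := Fintype.one_lt_card (α := F)
  rw [Nat.odd_iff] at hodd
  omega

lemma card_oddIndex (m : ℕ) : Fintype.card (Unit ⊕ (Fin m ⊕ Fin m)) = 2 * m + 1 := by
  simp only [Fintype.card_sum, Fintype.card_unit, Fintype.card_fin]
  omega

/-- Every automorphism of `Ω_{2m+1}(q)` is induced by a semisimilarity. -/
theorem isSemisim_quadFormOdd {F : Type*} [Field F] [Fintype F] (hodd : Odd (Fintype.card F)) {m : ℕ}
    (hm : 3 ≤ m) (β : MulAut (Cfsg.POmega F (Cfsg.quadFormOdd m F))) :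
    IsSemisim (Cfsg.quadFormOdd m F) β :=
  isSemisim_of_dim (isNondegenerateQuadraticForm_quadFormOdd m (two_ne_zero_of_odd hodd))
    (by rw [card_oddIndex]; omega) (three_le_card_of_odd hodd)
    (fun _ _ h => by rw [card_oddIndex] at h; omega) β

end CfsgLib.AutOrth
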