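import Cfsg.Agent.AutOrth.OddForm
import Cfsg.Agent.AutOrth.SimClass
import Cfsg.Agent.AutOrthField.Action
import Cfsg.Agent.AutPSL.Outer

/-! The outer automorphism group of `Ω_{2m+1}(q)`. -/

set_option autoImplicit false
set_option linter.unusedSectionVars false

namespace CfsgLib.AutOrth.OddOut

open Cfsg Cfsg.Geo CfsgLib.OrthGeo CfsgLib.AutOrth CfsgLib.AutOrthField CfsgLib.Classical.Orth Module
open scoped Matrix MatrixGroups

section generic

variable {ι : Type} [Fintype ι] [DecidableEq ι] {F : Type*} [Field F]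
variable {Q : (ι → F) → F}

/-- Isometries as similarities. -/
def toSim (Q : (ι → F) → F) : isometryGroup F Q →* Sim Q := Subgroup.inclusion (isometry_le_similarity Q)

lemma omegaToS_eq (k : Omega F Q) : omegaToS Q k = toSim Q k.1 := rfl

variable (hQ : IsNondegenerateQuadraticForm Q)
include hQ

/-- Minus one. -/
def negOne : isometryGroup F Q :=
  ⟨-1, mem_isometryGroup.2 fun v => by rw [Units.val_neg, Units.val_one, Matrix.neg_mulVec, Matrix.one_mulVec,
    q_neg hQ]⟩

lemma conjS_negOne : conjS Q (toSim Q (negOne hQ)) = 1 :=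
  conjS_eq_one_of_scalar (c := -1) fun x => by
    show ((-1 : GL ι F) : Matrix ι ι F) *ᵥ x = _
    rw [Units.val_neg, Units.val_one, Matrix.neg_mulVec, Matrix.one_mulVec, neg_one_smul]

/-- In odd dimension every multiplier is a square. -/
theorem exists_scalar_mul_isometry (hodd : Odd (Fintype.card ι)) (g : Sim Q) :
    ∃ (u : Fˣ) (h : isometryGroup F Q), g = scalarSim hQ u * toSim Q h := by
  obtain ⟨c, hc⟩ := g.2
  have hb := similarity_b hQ hc
  obtain ⟨k, hk⟩ := hodd
  set G : Matrix ι ι F := ((g : GL ι F) : Matrix ι ι F) with hG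
  have hcomp : (bform hQ).comp G.toLin' G.toLin' = (c : F) • bform hQ := by
    refine LinearMap.BilinForm.ext fun x y => ?_
    rw [LinearMap.BilinForm.comp_apply, LinearMap.smul_apply, LinearMap.smul_apply, Matrix.toLin'_apply,
      Matrix.toLin'_apply, hb, smul_eq_mul]
  have h1 := congrArg (fun B => (LinearMap.BilinForm.toMatrix' B).det) hcomp
  simp only [LinearMap.BilinForm.toMatrix'_comp, LinearMap.toMatrix'_toLin', map_smul, Matrix.det_smul,
    Matrix.det_mul, Matrix.det_transpose] at h1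
  have hM : (LinearMap.BilinForm.toMatrix' (bform hQ)).det ≠ 0 := by
    rw [← Matrix.nondegenerate_iff_det_ne_zero, LinearMap.BilinForm.nondegenerate_toMatrix'_iff]
    exact b_nondeg hQ
  have h2 : G.det * G.det = (c : F) ^ (2 * k + 1) := by
    rw [← hk]
    exact mul_right_cancel₀ hM (by linear_combination h1)
  have hd : G.det ≠ 0 := fun h => by rw [h, mul_zero] at h2; exact pow_ne_zero _ c.ne_zero h2.symm
  set u : Fˣ := Units.mk0 G.det hd * (c ^ k)⁻¹ with hu
  have hu2 : (u : F) * u = c := by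
    have hck : (c : F) ^ k ≠ 0 := pow_ne_zero _ c.ne_zero
    rw [hu, Units.val_mul, Units.val_mk0, Units.val_inv_eq_inv_val, Units.val_pow_eq_pow_val]
    field_simp
    linear_combination h2
  have hmem : ((scalarSim hQ u⁻¹ * g : Sim Q) : GL ι F) ∈ isometryGroup F Q := mem_isometryGroup.2 fun v => by
    rw [Subgroup.coe_mul, Units.val_mul, ← Matrix.mulVec_mulVec, coe_scalarSim, scalar_mulVec, q_smul hQ, hc,
      ← hu2, Units.val_inv_eq_inv_val]
    field_simp
  exact ⟨u, ⟨_, hmem⟩, by
    rw [show toSim Q ⟨_, hmem⟩ = scalarSim hQ u⁻¹ * g from Subtype.ext rfl, ← mul_assoc, ← map_mul,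
      mul_inv_cancel, map_one, one_mul]⟩

variable [Finite F]

lemma negOne_fst (h2 : (2 : F) ≠ 0) (hodd : Odd (Fintype.card ι))
    (hexc : ¬ (Nat.card F = 2 ∧ Fintype.card ι = 4)) : (classHom hQ hexc (negOne hQ)).1 ≠ 1 := by
  rw [ne_eq, classHom_fst]
  have : residual ((negOne hQ : isometryGroup F Q) : GL ι F) = ⊤ := by
    refine eq_top_iff.2 fun x _ => ?_
    refine ⟨(2 : F)⁻¹ • x, ?_⟩
    show Matrix.mulVecLin (1 - ((-1 : GL ι F) : Matrix ι ι F)) ((2 : F)⁻¹ • x) = x
    rw [Matrix.mulVecLin_apply, Units.val_neg, Units.val_one, sub_neg_eq_add, Matrix.add_mulVec,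
      Matrix.one_mulVec, ← two_smul F, smul_inv_smul₀ h2]
  rw [this, finrank_top, finrank_fintype_fun_eq_card]
  exact Nat.not_even_iff_odd.2 hodd

/-- Which isometries act as inner automorphisms. -/
theorem conjS_mem_inn_iff (hn : 5 ≤ Fintype.card ι) (hexc : ¬ (Nat.card F = 2 ∧ Fintype.card ι = 4))
    (g : isometryGroup F Q) :
    conjS Q (toSim Q g) ∈ Inn (POmega F Q) ↔
      classHom hQ hexc g = 1 ∨ classHom hQ hexc g = classHom hQ hexc (negOne hQ) := by
  have hker : ∀ k, classHom hQ hexc k = 1 ↔ k ∈ Omega F Q := fun k => by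
    rw [← ker_classHom hQ hexc, MonoidHom.mem_ker]
  constructor
  · rw [inn_eq]
    rintro ⟨_, ⟨k, rfl⟩, hkg⟩
    have h1 : conjS Q (toSim Q ((k : isometryGroup F Q)⁻¹ * g)) = 1 := by
      rw [map_mul, map_mul, map_inv, map_inv, ← omegaToS_eq, hkg, inv_mul_cancel]
    obtain ⟨a, ha⟩ := scalar_of_conjS_eq_one hQ hn h1
    have : Nonempty ι := Fintype.card_pos_iff.1 (by omega)
    obtain ⟨x, hx⟩ := AutOrthField.exists_q_ne_zero hQ
    have hiso := mem_isometryGroup.1 ((k : isometryGroup F Q)⁻¹ * g).2 x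
    rw [show ((((k : isometryGroup F Q)⁻¹ * g : isometryGroup F Q) : GL ι F) : Matrix ι ι F) *ᵥ x = a • x
      from ha x, q_smul hQ, sq] at hiso
    rw [show classHom hQ hexc g = classHom hQ hexc ((k : isometryGroup F Q)⁻¹ * g) by
      rw [map_mul, map_inv, (hker _).2 k.2, inv_one, one_mul]]
    rcases mul_self_eq_one_iff.1 (mul_right_cancel₀ hx (hiso.trans (one_mul _).symm)) with rfl | rfl
    · left
      rw [show (k : isometryGroup F Q)⁻¹ * g = 1 from Subtype.ext (gl_ext fun y => by
        rw [Subgroup.coe_one, Units.val_one, Matrix.one_mulVec]; exact (ha y).trans (one_smul F y)), map_one]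
    · right
      rw [show (k : isometryGroup F Q)⁻¹ * g = negOne hQ from Subtype.ext (gl_ext fun y => by
        refine (ha y).trans ?_
        show _ = ((-1 : GL ι F) : Matrix ι ι F) *ᵥ y
        rw [Units.val_neg, Units.val_one, Matrix.neg_mulVec, Matrix.one_mulVec, neg_one_smul])]
  · rintro (h | h)
    · exact ⟨QuotientGroup.mk ⟨g, (hker g).1 h⟩, (conjS_omega ⟨g, (hker g).1 h⟩).symm⟩
    · have h1 : g * (negOne hQ)⁻¹ ∈ Omega F Q := (hker _).1 (by rw [map_mul, map_inv, h, mul_inv_cancel])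
      refine ⟨QuotientGroup.mk ⟨_, h1⟩, (conjS_omega _).symm.trans ?_⟩
      rw [omegaToS_eq, map_mul, map_mul, map_inv, map_inv, conjS_negOne, inv_one, mul_one]

/-- A semisimilarity acting trivially on `PΩ(Q)` has trivial field automorphism. -/
theorem sigma_eq_one_of_twistP (hn : 5 ≤ Fintype.card ι) {g : GL ι F} {σ : F ≃+* F}
    (h : IsSemisimilarityPair Q g σ) (h1 : twistP h = 1) : σ = RingEquiv.refl F := by
  classical
  have := Fintype.ofFinite F
  obtain ⟨c, hc⟩ := semisim_exists h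
  have hG0 : ∀ u, u ≠ 0 → semi g σ u ≠ 0 := fun u hu h0 => hu (by
    have h2 := inv_mulVec_cancel g (fun i => σ (u i))
    rw [semi] at h0
    rw [h0, Matrix.mulVec_zero] at h2
    funext i
    exact σ.injective ((congrFun h2 i).symm.trans (map_zero σ).symm))
  have hGz : ∀ u, Q u = 0 → Q (semi g σ u) = 0 := fun u hu => by rw [hc, hu, map_zero, mul_zero]
  have hline : ∀ u, u ≠ 0 → Q u = 0 → ∃ a : F, a • u = semi g σ u := by
    intro u hu0 hu
    refine mkPoint_eq_iff.1 (eq_of_fixed hQ hn (hu0 := hu0) (hu := hu) (hv0 := hG0 u hu0) (hv := hGz u hu) ?_)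
    rintro k ⟨w, hw, hk⟩
    have hku : ((k : GL ι F) : Matrix ι ι F) *ᵥ u = u := by rw [hk]; exact eichler_fix_left hQ hu hw
    have h2 := pact_twistP hQ hn h k (hG0 u hu0) (hGz u hu) (by rw [hku]; exact hG0 u hu0)
      (by rw [hku]; exact hGz u hu)
    rw [h1, MulAut.one_apply, pact_pr] at h2
    rw [h2]
    congr 1
    rw [hku]
  obtain ⟨e, -, he0, he⟩ := exists_singular hQ (S := ⊤)
    (by rw [finrank_top, finrank_fintype_fun_eq_card]; omega)
  obtain ⟨f, hf, hef⟩ := exists_partner hQ he he0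
  obtain ⟨w, hwT, hw0, hw⟩ := exists_singular hQ (S := perp hQ (Submodule.span F {e} ⊔ Submodule.span F {f}))
    (by have := finrank_perp_hyp hQ hn he hef; omega)
  obtain ⟨hew, hfw⟩ := (mem_perp_pair hQ).1 hwT
  obtain ⟨a, ha⟩ := hline e he0 he
  obtain ⟨b, hb⟩ := hline w hw0 hw
  have ha0 : a ≠ 0 := fun h0 => hG0 e he0 (by rw [← ha, h0, zero_smul])
  have key : ∀ t : F, σ t * b = a * t := by
    intro t
    have hQ' : Q (e + t • w) = 0 := by
      rw [q_add hQ, q_smul hQ, he, hw, map_smul, hew, smul_zero, mul_zero, add_zero, add_zero]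
    have hne : e + t • w ≠ 0 := fun h0 => by
      have := congrArg (bform hQ f) h0
      rw [map_add, map_smul, b_symm hQ f e, hef, hfw, smul_zero, add_zero, map_zero] at this
      exact one_ne_zero this
    obtain ⟨d, hd⟩ := hline _ hne hQ'
    rw [semi_add, semi_smul, ← ha, ← hb, smul_add, smul_smul, smul_smul] at hd
    have h3 := congrArg (bform hQ f) hd
    simp only [map_add, map_smul, b_symm hQ f e, hef, hfw, smul_eq_mul, mul_one, mul_zero, add_zero] at h3
    rw [h3] at hd
    exact (smul_left_injective F hw0 (add_left_cancel hd)).symm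
  refine RingEquiv.ext fun t => ?_
  have hba : b = a := by have := key 1; rwa [map_one, one_mul, mul_one] at this
  have h4 := key t
  rw [hba, mul_comm a t] at h4
  exact mul_right_cancel₀ ha0 h4

/-- `PΩ(Q)` has trivial centre. -/
theorem conj_injective (hn : 5 ≤ Fintype.card ι) :
    Function.Injective (MulAut.conj : POmega F Q → MulAut (POmega F Q)) := by
  refine (injective_iff_map_eq_one MulAut.conj).2 fun x hx => ?_
  obtain ⟨k, rfl⟩ := QuotientGroup.mk_surjective x
  rw [← conjS_omega] at hx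
  obtain ⟨a, ha⟩ := scalar_of_conjS_eq_one hQ hn hx
  rw [QuotientGroup.eq_one_iff, Subgroup.mem_center_iff]
  intro s
  refine Subtype.ext (Subtype.ext (gl_ext fun y => ?_))
  have ha' : ∀ z, (((k : isometryGroup F Q) : GL ι F) : Matrix ι ι F) *ᵥ z = a • z := ha
  simp only [Subgroup.coe_mul, Units.val_mul, ← Matrix.mulVec_mulVec, ha', Matrix.mulVec_smul]

end generic

variable {F : Type*} [Field F] [Fintype F] {m : ℕ}

lemma sigmaInv (σ : RingAut F) : SigmaInv (quadFormOdd m F) σ := fun v => by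
  simp [quadFormOdd, map_add, map_sum, map_mul, map_pow]

/-- The field automorphisms. -/
noncomputable def fieldHom : RingAut F →* MulAut (POmega F (quadFormOdd m F)) :=
  MonoidHom.mk' (fun σ => mapP (sigmaInv σ)) fun σ τ => (mapP_mul (sigmaInv σ) (sigmaInv τ) (sigmaInv _)).symm

/-- A homomorphism from a group of order two. -/
noncomputable def twoHom {A : Type*} [Group A] (a : A) (ha : a * a = 1) : Multiplicative (ZMod 2) →* A where
  toFun x := if x = 1 then 1 else a
  map_one' := if_pos rfl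
  map_mul' x y := by
    obtain ⟨x, rfl⟩ := Multiplicative.ofAdd.surjective x
    obtain ⟨y, rfl⟩ := Multiplicative.ofAdd.surjective y
    fin_cases x <;> fin_cases y <;> simp [ha] <;> rfl

variable (hodd : Odd (Fintype.card F)) (hm : 3 ≤ m)
include hodd hm

theorem decomposition (β : MulAut (POmega F (quadFormOdd m F))) :
    ∃ (h : isometryGroup F (quadFormOdd m F)) (σ : RingAut F),
      β = conjS _ (toSim _ h) * fieldHom σ := by
  obtain ⟨g, σ, hp, rfl⟩ := isSemisim_quadFormOdd hodd hm β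
  have hg : g ∈ quadSimilarityGroup (quadFormOdd m F) := by
    obtain ⟨c, hc⟩ := semisim_exists hp
    refine ⟨c, fun v => ?_⟩
    obtain ⟨w, rfl⟩ : ∃ w : Unit ⊕ (Fin m ⊕ Fin m) → F, v = fun i => σ (w i) :=
      ⟨fun i => σ.symm (v i), by funext i; simp⟩
    rw [sigmaInv σ w]
    exact hc w
  have hN := isNondegenerateQuadraticForm_quadFormOdd m (two_ne_zero_of_odd hodd)
  obtain ⟨u, h, hu⟩ := exists_scalar_mul_isometry hN (by rw [card_oddIndex]; exact odd_two_mul_add_one m) ⟨g, hg⟩
  refine ⟨h, σ, (conjS_mul_mapP (sigmaInv σ) ⟨g, hg⟩ hp).symm.trans ?_⟩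
  rw [hu, map_mul, conjS_scalarSim, one_mul]
  rfl

theorem fieldHom_eq_conjS {h : isometryGroup F (quadFormOdd m F)} {σ : RingAut F}
    (e : fieldHom σ = conjS _ (toSim _ h)) : σ = 1 := by
  have hN := isNondegenerateQuadraticForm_quadFormOdd m (two_ne_zero_of_odd hodd)
  have hn : 5 ≤ Fintype.card (Unit ⊕ (Fin m ⊕ Fin m)) := by rw [card_oddIndex]; omega
  have hp : IsSemisimilarityPair (quadFormOdd m F) ((h : GL _ F)⁻¹) σ := by
    refine ⟨1, fun v => ?_⟩
    rw [mem_isometryGroup.1 ((isometryGroup F (quadFormOdd m F)).inv_mem h.2), sigmaInv σ v, Units.val_one, one_mul]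
  have h1 : twistP hp = 1 := by
    have := conjS_mul_mapP (sigmaInv σ) (toSim _ h⁻¹) hp
    refine this.symm.trans ?_
    rw [map_inv, map_inv, ← e]
    exact inv_mul_cancel _
  exact sigma_eq_one_of_twistP hN hn hp h1

set_option maxHeartbeats 1000000 in
theorem out_equiv :
    Nonempty (Out (POmega F (quadFormOdd m F)) ≃* Multiplicative (ZMod 2) × RingAut F) := by
  set Q := quadFormOdd m F
  have hN : IsNondegenerateQuadraticForm Q :=
    isNondegenerateQuadraticForm_quadFormOdd m (two_ne_zero_of_odd hodd)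
  have hn : 5 ≤ Fintype.card (Unit ⊕ (Fin m ⊕ Fin m)) := by rw [card_oddIndex]; omega
  have h2 := two_ne_zero_of_odd hodd
  have hexc : ¬ (Nat.card F = 2 ∧ Fintype.card (Unit ⊕ (Fin m ⊕ Fin m)) = 4) := by omega
  have hiff := conjS_mem_inn_iff hN hn hexc
  have hz := negOne_fst hN h2 (by rw [card_oddIndex]; exact odd_two_mul_add_one m) hexc
  obtain ⟨a, ha⟩ : ∃ a : isometryGroup F Q, conjS Q (toSim Q a) ∉ Inn (POmega F Q) := by
    obtain ⟨d, hd⟩ := exists_not_isSquare (F := F) h2
    obtain ⟨v, hv⟩ := exists_q_eq hN (by omega) (one_ne_zero (α := F))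
    have hd0 : d ≠ 0 := fun h => hd (h ▸ IsSquare.zero)
    obtain ⟨w, hw⟩ := exists_q_eq hN (by omega) hd0
    have hv0 : Q v ≠ 0 := by rw [hv]; exact one_ne_zero
    have hw0 : Q w ≠ 0 := by rw [hw]; exact hd0
    by_contra h
    push Not at h
    have h1 := (hiff _).1 (h (refl hN hv0))
    have h3 := (hiff _).1 (h (refl hN hw0))
    have hfst : ∀ x : Cls, x.1 = Multiplicative.ofAdd 1 → x ≠ 1 := by decide
    replace h1 := h1.resolve_left (hfst _ (classHom_refl_fst hN hexc hv0))
    replace h3 := h3.resolve_left (hfst _ (classHom_refl_fst hN hexc hw0))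
    have hs := (classHom_refl_snd hN hexc hv0).2 (by rw [hv]; exact IsSquare.one)
    rw [h1, ← h3, classHom_refl_snd, hw] at hs
    exact hd hs
  have hcls : ∀ z x y : Cls, z.1 ≠ 1 → ¬ (x = 1 ∨ x = z) → ¬ (y = 1 ∨ y = z) → (x * y = 1 ∨ x * y = z) := by
    decide
  set mk := QuotientGroup.mk' (Inn (POmega F Q))
  set abar := mk (conjS Q (toSim Q a)) with habar
  have habar1 : abar ≠ 1 := fun h => ha ((QuotientGroup.eq_one_iff _).1 h)
  have hmul : ∀ x y : isometryGroup F Q, conjS Q (toSim Q x) ∉ Inn (POmega F Q) →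
      conjS Q (toSim Q y) ∉ Inn (POmega F Q) → mk (conjS Q (toSim Q x)) * mk (conjS Q (toSim Q y)) = 1 := by
    intro x y hx hy
    rw [hiff] at hx hy
    rw [← map_mul, ← map_mul, ← map_mul]
    exact (QuotientGroup.eq_one_iff _).2 ((hiff _).2 (by rw [map_mul]; exact hcls _ _ _ hz hx hy))
  have ha2 : abar * abar = 1 := hmul a a ha ha
  have hcoset : ∀ x : isometryGroup F Q, mk (conjS Q (toSim Q x)) = 1 ∨ mk (conjS Q (toSim Q x)) = abar := by
    intro x
    by_cases hx : conjS Q (toSim Q x) ∈ Inn (POmega F Q)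
    · exact Or.inl ((QuotientGroup.eq_one_iff _).2 hx)
    · exact Or.inr (mul_right_cancel ((hmul x a hx ha).trans ha2.symm))
  set J : RingAut F →* Out (POmega F Q) := mk.comp fieldHom
  have hcomm : ∀ (i : Multiplicative (ZMod 2)) (σ : RingAut F), Commute (twoHom abar ha2 i) (J σ) := by
    intro i σ
    show Commute (if i = 1 then 1 else abar) _
    split_ifs
    · exact Commute.one_left _
    · have hmem : (glMap σ (a : GL _ F)) ∈ isometryGroup F Q := by
        refine mem_isometryGroup.2 fun v => ?_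
        obtain ⟨w, rfl⟩ : ∃ w : Unit ⊕ (Fin m ⊕ Fin m) → F, v = fun i => σ (w i) :=
          ⟨fun i => σ.symm (v i), by funext i; simp⟩
        have hσ : ∀ u, Q (fun i => σ (u i)) = σ (Q u) := sigmaInv σ
        rw [glMap_mulVec, hσ, hσ, mem_isometryGroup.1 a.2]
      have he : J σ * abar = mk (conjS Q (toSim Q ⟨_, hmem⟩)) * J σ := by
        rw [habar, show J σ = mk (mapP (sigmaInv σ)) from rfl, ← map_mul, ← map_mul, mapP_mul_conjS]
        rfl
      rcases hcoset ⟨_, hmem⟩ with h | h
      · rw [h, one_mul] at he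
        exact absurd (mul_eq_left.1 he) habar1
      · rw [h] at he
        exact he.symm
  let e := (twoHom abar ha2).noncommCoprod J hcomm
  have hfield : ∀ σ : RingAut F, ∀ x : isometryGroup F Q, J σ = mk (conjS Q (toSim Q x)) → σ = 1 := by
    intro σ x h
    have h1 := QuotientGroup.eq.1 h.symm
    rw [inn_eq] at h1
    obtain ⟨_, ⟨k, rfl⟩, hk⟩ := h1
    refine fieldHom_eq_conjS hodd hm (h := x * (k : isometryGroup F Q)) ?_
    rw [map_mul, map_mul, ← omegaToS_eq, hk, mul_inv_cancel_left]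
  have hinj : Function.Injective e := by
    refine (injective_iff_map_eq_one e).2 ?_
    rintro ⟨i, σ⟩ h
    change (if i = 1 then 1 else abar) * J σ = 1 at h
    split_ifs at h with hi
    · rw [one_mul] at h
      exact Prod.ext hi (hfield σ 1 (by rw [h, map_one, map_one, map_one]))
    · have hσ := hfield σ a (by rw [eq_inv_of_mul_eq_one_right h, inv_eq_of_mul_eq_one_right ha2])
      subst hσ
      rw [map_one, mul_one] at h
      exact absurd h habar1
  have hsurj : Function.Surjective e := by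
    intro z
    obtain ⟨β, rfl⟩ := QuotientGroup.mk'_surjective _ z
    obtain ⟨h, σ, rfl⟩ := decomposition hodd hm β
    rw [map_mul]
    rcases hcoset h with h1 | h1
    · refine ⟨(1, σ), ?_⟩
      show (if (1 : Multiplicative (ZMod 2)) = 1 then 1 else abar) * J σ = _
      rw [if_pos rfl, h1]; rfl
    · refine ⟨(Multiplicative.ofAdd 1, σ), ?_⟩
      show (if (Multiplicative.ofAdd 1 : Multiplicative (ZMod 2)) = 1 then 1 else abar) * J σ = _
      rw [if_neg (by decide), h1]; rfl
  exact ⟨(MulEquiv.ofBijective e ⟨hinj, hsurj⟩).symm⟩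

theorem out_equiv_zmod {p f : ℕ} [Fact p.Prime] (hf : 1 ≤ f) (hF : Fintype.card F = p ^ f) :
    Nonempty (Out (POmega F (quadFormOdd m F)) ≃* Multiplicative (ZMod 2 × ZMod f)) := by
  obtain ⟨e⟩ := out_equiv hodd hm
  obtain ⟨e'⟩ := AutPSL.autField_equiv (F := F) hf hF
  exact ⟨e.trans (((MulEquiv.refl _).prodCongr e').trans
    (MulEquiv.prodMultiplicative (ZMod 2) (ZMod f)).symm)⟩

theorem card_mulAut {p f : ℕ} [Fact p.Prime] (hf : 1 ≤ f) (hF : Fintype.card F = p ^ f) :
    Nat.card (MulAut (POmega F (quadFormOdd m F))) = 2 * f * Nat.card (POmega F (quadFormOdd m F)) := by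
  obtain ⟨e⟩ := out_equiv_zmod hodd hm hf hF
  have hN := isNondegenerateQuadraticForm_quadFormOdd m (two_ne_zero_of_odd hodd)
  have hn : 5 ≤ Fintype.card (Unit ⊕ (Fin m ⊕ Fin m)) := by rw [card_oddIndex]; omega
  rw [Subgroup.card_eq_card_quotient_mul_card_subgroup (Inn (POmega F (quadFormOdd m F))),
    Nat.card_congr e.toEquiv, Nat.card_congr Multiplicative.toAdd, Nat.card_prod, Nat.card_zmod, Nat.card_zmod]
  congr 1
  exact (Nat.card_congr (MonoidHom.ofInjective (conj_injective hN hn)).toEquiv).symm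

end CfsgLib.AutOrth.OddOut
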